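import Mathlib.GroupTheory.Nilpotent

/-!
# Iterated commutators and the central series
-/

set_option autoImplicit false

universe u v

open scoped commutatorElement

namespace Groth.L25.NilMult

variable {Γ : Type u} [Group Γ]

/-- the iterated commutator -/
def iterC : (j : ℕ) → Γ → (Fin j → Γ) → Γ
  | 0, z, _ => z
  | j + 1, z, p => iterC j ⁅z, p 0⁆ fun i => p i.succ

theorem mem_upper_iff (j : ℕ) (z : Γ) : z ∈ Subgroup.upperCentralSeries Γ j ↔ ∀ p, iterC j z p = 1 := by
  induction j generalizing z with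
  | zero =>
    rw [Subgroup.upperCentralSeries_zero, Subgroup.mem_bot]
    exact ⟨fun h _ => h, fun h => h Fin.elim0⟩
  | succ j ih =>
    rw [Subgroup.mem_upperCentralSeries_succ_iff]
    refine ⟨fun h p => (ih _).1 (h (p 0)) _, fun h y => (ih _).2 fun p => ?_⟩
    simpa [iterC] using h (Fin.cons y p)

theorem iterC_one (j : ℕ) (p : Fin j → Γ) : iterC j 1 p = 1 :=
  (mem_upper_iff j 1).1 (one_mem _) p

theorem iterC_mem_center (j : ℕ) : ∀ (z : Γ), z ∈ Subgroup.upperCentralSeries Γ (j + 1) → ∀ p, iterC j z p ∈ Subgroup.center Γ := by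
  induction j with
  | zero => intro z hz _; rw [← Subgroup.upperCentralSeries_one]; exact hz
  | succ j ih => intro z hz p; exact ih _ (Subgroup.mem_upperCentralSeries_succ_iff.1 hz (p 0)) _

theorem iterC_mul (j : ℕ) : ∀ (z w : Γ), z ∈ Subgroup.upperCentralSeries Γ (j + 1) → w ∈ Subgroup.upperCentralSeries Γ (j + 1) →
    ∀ p, iterC j (z * w) p = iterC j z p * iterC j w p := by
  induction j with
  | zero => intros; rfl
  | succ j ih =>
    intro z w hz hw p
    show iterC j ⁅z * w, p 0⁆ _ = _ * _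
    set v := ⁅w, p 0⁆
    set q := fun i : Fin j => p i.succ
    have hzy : ⁅z, p 0⁆ ∈ Subgroup.upperCentralSeries Γ (j + 1) := Subgroup.mem_upperCentralSeries_succ_iff.1 hz _
    have hv : v ∈ Subgroup.upperCentralSeries Γ (j + 1) := Subgroup.mem_upperCentralSeries_succ_iff.1 hw _
    have ha : z * v * z⁻¹ ∈ Subgroup.upperCentralSeries Γ (j + 1) := Subgroup.Normal.conj_mem inferInstance v hv z
    have hzv : ⁅z, v⁆ ∈ Subgroup.upperCentralSeries Γ j := by
      rw [← commutatorElement_inv]; exact inv_mem (Subgroup.mem_upperCentralSeries_succ_iff.1 hv z)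
    have hzv' : ⁅z, v⁆ ∈ Subgroup.upperCentralSeries Γ (j + 1) := Subgroup.upperCentralSeries_mono Γ (Nat.le_succ j) hzv
    rw [show ⁅z * w, p 0⁆ = (z * v * z⁻¹) * ⁅z, p 0⁆ by simp only [v, commutatorElement_def]; group,
      ih _ _ ha hzy, show z * v * z⁻¹ = ⁅z, v⁆ * v by simp only [commutatorElement_def]; group,
      ih _ _ hzv' hv, (mem_upper_iff j _).1 hzv, one_mul]
    exact ((Subgroup.mem_center_iff.1 (iterC_mem_center j _ hv q)) _).symm

theorem iterC_commutator_mul (j : ℕ) (a b g : Γ) (ha : ⁅a, g⁆ ∈ Subgroup.upperCentralSeries Γ (j + 1))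
    (hb : ⁅b, g⁆ ∈ Subgroup.upperCentralSeries Γ (j + 1)) (p : Fin j → Γ) :
    iterC j ⁅a * b, g⁆ p = iterC j ⁅a, g⁆ p * iterC j ⁅b, g⁆ p := by
  set v := ⁅b, g⁆
  have hc : a * v * a⁻¹ ∈ Subgroup.upperCentralSeries Γ (j + 1) := Subgroup.Normal.conj_mem inferInstance v hb a
  have hav : ⁅a, v⁆ ∈ Subgroup.upperCentralSeries Γ j := by
    rw [← commutatorElement_inv]; exact inv_mem (Subgroup.mem_upperCentralSeries_succ_iff.1 hb a)
  have hav' : ⁅a, v⁆ ∈ Subgroup.upperCentralSeries Γ (j + 1) := Subgroup.upperCentralSeries_mono Γ (Nat.le_succ j) hav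
  rw [show ⁅a * b, g⁆ = (a * v * a⁻¹) * ⁅a, g⁆ by simp only [v, commutatorElement_def]; group,
    iterC_mul j _ _ hc ha, show a * v * a⁻¹ = ⁅a, v⁆ * v by simp only [commutatorElement_def]; group,
    iterC_mul j _ _ hav' hb, (mem_upper_iff j _).1 hav, one_mul]
  exact ((Subgroup.mem_center_iff.1 (iterC_mem_center j _ hb p)) _).symm

theorem map_iterC {Δ : Type v} [Group Δ] (f : Γ →* Δ) (j : ℕ) : ∀ (z : Γ) (p : Fin j → Γ),
    f (iterC j z p) = iterC j (f z) (f ∘ p) := by
  induction j with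
  | zero => intros; rfl
  | succ j ih =>
    intro z p
    show f (iterC j _ _) = _
    rw [ih, map_commutatorElement]
    rfl

theorem upper_eq_top_of_lower_eq_bot (n : ℕ) (h : (⊤ : Subgroup Γ).lowerCentralSeries n = ⊥) :
    Subgroup.upperCentralSeries Γ n = ⊤ := by
  have key : ∀ j, ∀ m, j + m = n → (⊤ : Subgroup Γ).lowerCentralSeries m ≤ Subgroup.upperCentralSeries Γ j := by
    intro j
    induction j with
    | zero => intro m hm; rw [show m = n by omega, h]; exact bot_le
    | succ j ih =>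
      intro m hm x hx
      refine Subgroup.mem_upperCentralSeries_succ_iff.2 fun y => ih (m + 1) (by omega) ?_
      exact Subgroup.commutator_mem_commutator hx (Subgroup.mem_top y)
  exact top_le_iff.1 (key n 0 (by omega))

end Groth.L25.NilMult
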