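import Groth.Agent.L25.NilMult.Group
import Groth.Agent.L08.RigidMult
import Groth.Agent.L08.Centre.Basic
import Groth.Agent.L25.RatConn
import Groth.Agent.L25.LargestMult.Scheme
import Groth.Agent.L25.MonoClosed.Main

/-!
# Subgroups of multiplicative type of connected nilpotent groups are central
-/

set_option autoImplicit false
set_option backward.isDefEq.respectTransparency.types false
set_option linter.style.haveILetI false

universe u

open CategoryTheory CategoryTheory.Limits MonoidalCategory CartesianMonoidalCategory MonObj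
open AlgebraicGeometry
open scoped commutatorElement

noncomputable section

namespace Groth.L25.NilMult

variable {k : Type u} [Field k] {G M : Over (Spec (CommRingCat.of k))} [GrpObj G] [GrpObj M]

/-- powers of an object -/
def P (G : Over (Spec (CommRingCat.of k))) : ℕ → Over (Spec (CommRingCat.of k))
  | 0 => 𝟙_ (Over (Spec (CommRingCat.of k)))
  | j + 1 => G ⊗ P G j

/-- the projections of a power -/
def pr (G : Over (Spec (CommRingCat.of k))) : (j : ℕ) → Fin j → (P G j ⟶ G)
  | 0 => Fin.elim0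
  | j + 1 => Fin.cons (fst G (P G j)) fun i => snd G (P G j) ≫ pr G j i

theorem exists_tuple {X : Over (Spec (CommRingCat.of k))} : ∀ (j : ℕ) (p : Fin j → (X ⟶ G)),
    ∃ h : X ⟶ P G j, ∀ i, h ≫ pr G j i = p i
  | 0, _ => ⟨toUnit X, fun i => i.elim0⟩
  | j + 1, p => by
    obtain ⟨h, hh⟩ := exists_tuple j fun i => p i.succ
    refine ⟨lift (p 0) h, fun i => ?_⟩
    refine Fin.cases ?_ (fun i => ?_) i
    · exact lift_fst (p 0) h
    · show lift (p 0) h ≫ snd G (P G j) ≫ pr G j i = _
      rw [lift_snd_assoc, hh]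

theorem connected_pow [ConnectedSpace ↥G.left] : ∀ j, ConnectedSpace ↥(P G j).left
  | 0 => inferInstanceAs (ConnectedSpace (PrimeSpectrum k))
  | j + 1 => by
    haveI := connected_pow j
    haveI : GeometricallyConnected G.hom :=
      Groth.L25.RatConn.geometricallyConnected_of_section G.hom η[G].left (Over.w η[G])
    exact inferInstanceAs (ConnectedSpace ↥(pullback G.hom (P G j).hom))

/-- precomposition on points -/
def preHom {X Y : Over (Spec (CommRingCat.of k))} (h : Y ⟶ X) : (X ⟶ G) →* (Y ⟶ G) :=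
  MonoidHom.mk' (fun g => h ≫ g) fun a b => MonObj.comp_mul h a b

/-- a subgroup of multiplicative type of a connected nilpotent group is central -/
theorem central_of_multType [LocallyOfFiniteType G.hom] [ConnectedSpace ↥G.left]
    (hnil : ∃ n : ℕ, ∀ X : Over (Spec (CommRingCat.of k)), (⊤ : Subgroup (X ⟶ G)).lowerCentralSeries n = ⊥)
    (hM : SGA3x.IsMultTypeFT M) (m : M ⟶ G) [IsMonHom m]
    (X : Over (Spec (CommRingCat.of k))) (x : X ⟶ M) (g : X ⟶ G) : (x ≫ m) * g = g * (x ≫ m) := by
  obtain ⟨n, hn⟩ := hnil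
  obtain ⟨Z, _, i, hi, hcl, hZ⟩ := Groth.L08.Centre.exists_centre G
  haveI := hi
  haveI := hcl
  haveI : Mono i := Over.mono_of_mono_left i
  haveI : LocallyOfFiniteType Z.hom := by rw [← Over.w i]; infer_instance
  have hcom : ∀ (Y : Over (Spec (CommRingCat.of k))) (a b : Y ⟶ Z), a * b = b * a := fun Y a b => by
    rw [← cancel_mono i, MonObj.mul_comp, MonObj.mul_comp]
    have h := (hZ.2.2 Y (a ≫ i)).1 ⟨a, rfl⟩ Y (𝟙 Y) (b ≫ i)
    simpa only [Category.id_comp, Category.comp_id] using h
  suffices key : ∀ d j, j + d = n → ∀ (X : Over (Spec (CommRingCat.of k))) (x : X ⟶ M) (g : X ⟶ G),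
      ⁅x ≫ m, g⁆ ∈ Subgroup.upperCentralSeries (X ⟶ G) j by
    have h := key n 0 (by omega) X x g
    rw [Subgroup.upperCentralSeries_zero, Subgroup.mem_bot] at h
    exact commutatorElement_eq_one_iff_mul_comm.1 h
  intro d
  induction d with
  | zero =>
    intro j hj X x g
    rw [show j = n by omega, upper_eq_top_of_lower_eq_bot n (hn X)]
    exact Subgroup.mem_top _
  | succ d ih =>
    intro j hj X x g
    have hj1 := ih (j + 1) (by omega)
    rw [mem_upper_iff]
    intro p
    let T := G ⊗ P G j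
    haveI : ConnectedSpace ↥T.left := connected_pow (G := G) (j + 1)
    let F : M ⊗ T ⟶ G := iterC j ⁅fst M T ≫ m, snd M T ≫ fst G (P G j)⁆
      (fun l => snd M T ≫ snd G (P G j) ≫ pr G j l)
    have hF : ∀ (Y : Over (Spec (CommRingCat.of k))) (a : Y ⟶ M) (t : Y ⟶ T),
        lift a t ≫ F = iterC j ⁅a ≫ m, t ≫ fst G (P G j)⁆ (fun l => t ≫ snd G (P G j) ≫ pr G j l) := by
      intro Y a t
      refine (map_iterC (Γ := (M ⊗ T ⟶ G)) (Δ := (Y ⟶ G)) (preHom (G := G) (lift a t)) j _ _).trans ?_
      rw [map_commutatorElement]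
      congr 1
      · show ⁅lift a t ≫ fst M T ≫ m, lift a t ≫ snd M T ≫ fst G (P G j)⁆ = _
        rw [lift_fst_assoc, lift_snd_assoc]
      · funext l
        show lift a t ≫ snd M T ≫ snd G (P G j) ≫ pr G j l = _
        rw [lift_snd_assoc]
    obtain ⟨F', hF'⟩ := (hZ.2.2 _ F).2 fun Y q h => by
      have hc : q ≫ F ∈ Subgroup.center (Y ⟶ G) := by
        rw [show q = lift (q ≫ fst M T) (q ≫ snd M T) by ext <;> simp, hF]
        exact iterC_mem_center j _ (hj1 _ _ _) _
      have h1 := (Subgroup.mem_center_iff.1 hc h).symm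
      simpa only [Category.comp_id] using h1
    have hmul : Groth.L25.HomSmooth.MulOn F' := by
      intro Y t a b
      rw [← cancel_mono i, MonObj.mul_comp, Category.assoc, Category.assoc, Category.assoc, hF', hF, hF, hF,
        MonObj.mul_comp]
      exact iterC_commutator_mul j _ _ _ (hj1 _ _ _) (hj1 _ _ _) _
    obtain ⟨o', ho'⟩ := exists_tuple (G := G) (X := 𝟙_ (Over (Spec (CommRingCat.of k)))) j fun _ => 1
    obtain ⟨hp, hhp⟩ := exists_tuple j p
    have h1 := Groth.L08.RigidMult.family_const hM hcom (lift 1 o') F' hmul X (lift g hp) x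
    have h2 := congrArg (· ≫ i) h1
    simp only [Category.assoc, hF', hF] at h2
    have e1 : (fun l => lift g hp ≫ snd G (P G j) ≫ pr G j l) = p := funext fun l => by
      rw [lift_snd_assoc, hhp]
    rw [e1, lift_fst] at h2
    rw [h2, lift_fst, MonObj.comp_one, commutatorElement_one_right, iterC_one]

/-- the largest subgroup of multiplicative type of a connected nilpotent group -/
theorem exists_largest_nilpotent [IsAffine G.left] [LocallyOfFiniteType G.hom] [ConnectedSpace ↥G.left]
    (hnil : ∃ n : ℕ, ∀ X : Over (Spec (CommRingCat.of k)), (⊤ : Subgroup (X ⟶ G)).lowerCentralSeries n = ⊥) :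
    ∃ (M : Over (Spec (CommRingCat.of k))) (_ : GrpObj M) (m : M ⟶ G), IsMonHom m ∧ IsClosedImmersion m.left ∧
      SGA3x.IsMultTypeFT M ∧
      (∀ (M' : Over (Spec (CommRingCat.of k))) [GrpObj M'] (m' : M' ⟶ G) [IsMonHom m'] [Mono m'],
        SGA3x.IsMultTypeFT M' → ∃ f : M' ⟶ M, f ≫ m = m') ∧
      ∀ (X : Over (Spec (CommRingCat.of k))) (x : X ⟶ M) (g : X ⟶ G), (x ≫ m) * g = g * (x ≫ m) := by
  obtain ⟨Z, _, i, hi, hcl, hZ⟩ := Groth.L08.Centre.exists_centre G
  haveI := hi
  haveI := hcl
  haveI : Mono i := Over.mono_of_mono_left i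
  haveI : IsAffine Z.left := isAffine_of_isAffineHom i.left
  haveI : LocallyOfFiniteType Z.hom := by rw [← Over.w i]; infer_instance
  have hcom : ∀ (Y : Over (Spec (CommRingCat.of k))) (a b : Y ⟶ Z), a * b = b * a := fun Y a b => by
    rw [← cancel_mono i, MonObj.mul_comp, MonObj.mul_comp]
    have h := (hZ.2.2 Y (a ≫ i)).1 ⟨a, rfl⟩ Y (𝟙 Y) (b ≫ i)
    simpa only [Category.id_comp, Category.comp_id] using h
  obtain ⟨M, _, mz, hmz, hmono, hMT, huniv⟩ := LargestMult.exists_largest k Z hcom
  haveI := hmz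
  haveI := hmono
  haveI : IsAffineHom Z.hom := isAffineHom_of_isAffine _
  haveI : IsClosedImmersion mz.left := MonoClosed.isClosedImmersion_of_mono hMT mz
  refine ⟨M, inferInstance, mz ≫ i, inferInstance, inferInstanceAs (IsClosedImmersion (mz.left ≫ i.left)),
    hMT, ?_, fun X x g => central_of_multType hnil hMT (mz ≫ i) X x g⟩
  intro M' _ m' _ _ hM'
  obtain ⟨v, hv⟩ := (hZ.2.2 _ m').2 fun Y q h => by
    simpa only [Category.comp_id] using central_of_multType hnil hM' m' Y q h
  haveI : IsMonHom v :=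
    { one_hom := by
        rw [← cancel_mono i, Category.assoc, hv, IsMonHom.one_hom, IsMonHom.one_hom]
      mul_hom := by
        rw [← cancel_mono i, Category.assoc, Category.assoc, hv, IsMonHom.mul_hom, IsMonHom.mul_hom,
          ← Category.assoc (v ⊗ₘ v), MonoidalCategory.tensorHom_comp_tensorHom, hv] }
  let e := Over.pullbackId (X := Spec (CommRingCat.of k))
  haveI : IsMonHom ((Over.pullback (𝟙 (Spec (CommRingCat.of k)))).map v) := MonoClosed.isMonHom_pullbackMap _ v
  have hM'' : SGA3x.IsMultTypeFT (Red.bc (𝟙 (Spec (CommRingCat.of k))) M') :=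
    MultTypeBC.isMultTypeFT_bc hM' _
  obtain ⟨w, hw⟩ := huniv _ (𝟙 _) (Red.bc (𝟙 (Spec (CommRingCat.of k))) M')
    ((Over.pullback (𝟙 (Spec (CommRingCat.of k)))).map v) hM''
  refine ⟨e.inv.app M' ≫ w ≫ e.hom.app M, ?_⟩
  rw [← hv, ← Category.assoc _ mz i]
  congr 1
  have h1 := e.hom.naturality mz
  simp only [Functor.id_map] at h1
  rw [Category.assoc, Category.assoc, ← h1, ← Category.assoc w, hw]
  have h2 := e.hom.naturality v
  simp only [Functor.id_map] at h2
  rw [h2, e.inv_hom_id_app_assoc]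

end Groth.L25.NilMult
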